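import Cfsg.Agent.Lib.SporadicB.Fi22.Basic
import Cfsg.Agent.S1686
import Cfsg.Agent.Lib.SporRecognition.Cert.Fi22O.Main
import Cfsg.Agent.Lib.SporRecognition.F22Model.Basic
import Cfsg.Prelude.Def_FischerSpaces

/-! The subgroup `Ω(7,3)` of `Fi22` generated by transpositions, transported along an isomorphism
carrying a given set onto the class of transpositions. -/

set_option autoImplicit false
set_option linter.all false

namespace CfsgLib.SporadicB.Fi22

open Cfsg.Spor.Fi22 (Gen)

/-- The presented group. -/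
abbrev P22 : Type := PresentedGroup (Cfsg.Spor.coxRelators Cfsg.Spor.Fi22.edges ∪ {r | r ∈ Cfsg.Spor.Fi22.extra})

/-- A generator of the presented group. -/
noncomputable def og (x : Gen) : P22 := PresentedGroup.of x

theorem og_rel (x y : Gen) : (og x * og y) ^ Cfsg.Spor.coxLabel Cfsg.Spor.Fi22.edges x y = 1 := by
  have hmem : ∀ z : Gen, z ∈ Cfsg.Spor.coxNodes Cfsg.Spor.Fi22.edges := by
    intro z; cases z <;> decide
  have h : PresentedGroup.mk (Cfsg.Spor.coxRelators Cfsg.Spor.Fi22.edges ∪ {r | r ∈ Cfsg.Spor.Fi22.extra})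
      ((FreeGroup.of x * FreeGroup.of y) ^ Cfsg.Spor.coxLabel Cfsg.Spor.Fi22.edges x y) = 1 :=
    PresentedGroup.one_of_mem (Or.inl ⟨x, hmem x, y, hmem y, rfl⟩)
  rw [map_pow, map_mul] at h
  exact h

theorem og_sq (x : Gen) : og x * og x = 1 := by
  have h := og_rel x x
  rwa [Cfsg.Spor.coxLabel, if_pos rfl, pow_one] at h

theorem og_isConj (x y : Gen) (h : Cfsg.Spor.coxLabel Cfsg.Spor.Fi22.edges x y = 3) :
    IsConj (og x) (og y) := by
  have hr := og_rel x y
  rw [h] at hr
  have hxi : (og x)⁻¹ = og x := inv_eq_of_mul_eq_one_right (og_sq x)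
  have hyi : (og y)⁻¹ = og y := inv_eq_of_mul_eq_one_right (og_sq y)
  refine isConj_iff.mpr ⟨og x * og y, ?_⟩
  rw [mul_inv_rev, hxi, hyi]
  calc og x * og y * og x * (og y * og x) = (og x * og y) ^ 3 * (og y)⁻¹ := by
        simp only [pow_succ, pow_zero, one_mul, mul_assoc, mul_inv_cancel, mul_one]
    _ = og y := by rw [hr, hyi, one_mul]

theorem og_mem_class (x : Gen) : og x ∈ conjugatesOf (og Gen.a) := by
  have hb : IsConj (og .a) (og .b) := og_isConj _ _ (by decide)
  have hc := hb.trans (og_isConj .b .c (by decide))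
  have hd := hc.trans (og_isConj .c .d (by decide))
  have he := hd.trans (og_isConj .d .e (by decide))
  have hf := he.trans (og_isConj .e .f (by decide))
  have hg := hf.trans (og_isConj .f .g (by decide))
  have hh := hd.trans (og_isConj .d .h (by decide))
  have hi := hh.trans (og_isConj .h .i (by decide))
  cases x <;> first | exact IsConj.refl _ | assumption

/-- The subgroup generated by the eight generators other than `a`. -/
noncomputable def O7sub : Subgroup P22 :=
  (Subgroup.closure ({Cfsg.Spor.Fi22.b, Cfsg.Spor.Fi22.c, Cfsg.Spor.Fi22.d, Cfsg.Spor.Fi22.e, Cfsg.Spor.Fi22.f, Cfsg.Spor.Fi22.g, Cfsg.Spor.Fi22.h, Cfsg.Spor.Fi22.i} : Set (FreeGroup Gen))).map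
    (PresentedGroup.mk (Cfsg.Spor.coxRelators Cfsg.Spor.Fi22.edges ∪ {r | r ∈ Cfsg.Spor.Fi22.extra}))

theorem O7sub_index : O7sub.index = 14080 := by
  have h := Cfsg.Agent.S1686.sub_eq
  unfold O7sub
  rw [h]
  exact CfsgLib.SporRecognition.Cert.Fi22O.certified.index_eq

theorem O7sub_closure : Subgroup.closure {d : P22 | d ∈ conjugatesOf (og Gen.a) ∧ d ∈ O7sub} = O7sub := by
  refine le_antisymm ((Subgroup.closure_le _).mpr fun d hd => hd.2) ?_
  unfold O7sub
  rw [MonoidHom.map_closure, Subgroup.closure_le]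
  intro z hz
  apply Subgroup.subset_closure
  refine ⟨?_, ?_⟩
  · obtain ⟨w, hw, rfl⟩ := hz
    simp only [Set.mem_insert_iff, Set.mem_singleton_iff] at hw
    rcases hw with rfl | rfl | rfl | rfl | rfl | rfl | rfl | rfl <;> exact og_mem_class _
  · exact Subgroup.subset_closure hz

/-- Transport of the subgroup `Ω(7,3)`. -/
theorem omega_seven {G : Type*} [Group G] [Finite G] (D : Set G)
    (M : CfsgLib.SporRecognition.F22Model.Model G D) :
    ∃ L : Subgroup G, Cfsg.IsDSubgroup D L ∧
      Nonempty (↥L ≃* Cfsg.POmega (ZMod 3) (Cfsg.quadFormOdd 3 (ZMod 3))) ∧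
      ∀ P : Sylow 3 ↥L, ∃ P' : Sylow 3 G, (P : Subgroup ↥L).map L.subtype = (P' : Subgroup G) := by
  let e : G ≃* P22 := M.iso
  have he : e '' D = conjugatesOf (og Gen.a) :=
    M.image.trans CfsgLib.SporRecognition.F22Model.conjugatesOf_a.symm
  refine ⟨O7sub.comap e.toMonoidHom, ?_, ?_, ?_⟩
  · unfold Cfsg.IsDSubgroup
    apply Subgroup.map_injective (f := e.toMonoidHom) e.injective
    rw [MonoidHom.map_closure, Subgroup.map_comap_eq_self_of_surjective e.surjective]
    conv_rhs => rw [← O7sub_closure]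
    congr 1
    ext z
    constructor
    · rintro ⟨d, ⟨hd, hL⟩, rfl⟩
      exact ⟨he ▸ Set.mem_image_of_mem _ hd, hL⟩
    · rintro ⟨hz, hL⟩
      rw [← he] at hz
      obtain ⟨d, hd, rfl⟩ := hz
      exact ⟨d, ⟨hd, hL⟩, rfl⟩
  · obtain ⟨u⟩ := Cfsg.Agent.S1686.result
    exact ⟨((MulEquiv.subgroupMap e _).trans (MulEquiv.subgroupCongr
      (Subgroup.map_comap_eq_self_of_surjective e.surjective O7sub))).trans u⟩
  · intro P
    haveI : Fact (Nat.Prime 3) := ⟨Nat.prime_three⟩
    obtain ⟨P', hP'⟩ := (P.isPGroup'.map (O7sub.comap e.toMonoidHom).subtype).exists_le_sylow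
    refine ⟨P', Subgroup.eq_of_le_of_card_ge hP' ?_⟩
    have hi : (O7sub.comap e.toMonoidHom).index = 14080 := by
      rw [Subgroup.index_comap_of_surjective _ e.surjective, O7sub_index]
    have h14 : Nat.factorization 14080 3 = 0 := Nat.factorization_eq_zero_of_not_dvd (by decide)
    rw [Subgroup.card_map_of_injective (O7sub.comap e.toMonoidHom).subtype_injective, P.card_eq_multiplicity,
      P'.card_eq_multiplicity, ← (O7sub.comap e.toMonoidHom).card_mul_index, hi,
      Nat.factorization_mul Nat.card_pos.ne' (by norm_num), Finsupp.add_apply, h14, add_zero]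

end CfsgLib.SporadicB.Fi22
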