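import Cfsg.Agent.Lib.SporadicB.Fi22.Data
import Cfsg.Agent.Lib.SporRecognition.CosetCert.Order

/-! Generated lower bound: PSU(6,2) on 693 points. -/

set_option autoImplicit false
set_option linter.all false
set_option Elab.async false

namespace CfsgLib.SporadicB.Fi22

open CfsgLib.SporRecognition.CosetCert

theorem L0inv0 : allBelow 10 693 (invStep L0g0 L0g2 693) = true := by decide +kernel
theorem L0inv1 : allBelow 10 693 (invStep L0g1 L0g3 693) = true := by decide +kernel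
theorem L0reach : allBelow 10 693 (reachStep [L0g0, L0g1, L0g2, L0g3] 0 L0mark L0rk L0via L0src 693) = true := by decide +kernel
theorem L0count : countLab 10 693 L0mark 1 = 693 := by decide +kernel

theorem L1eq0 : allBelow 10 693 (fun u => Nat.beq (L1g0 u) (trace [L0g0, L0g0, L0g1, L0g0, L0g1, L0g2, L0g3, L0g2, L0g2] u)) = true := by decide +kernel
theorem L1eq1 : allBelow 10 693 (fun u => Nat.beq (L1g1 u) (trace [L0g0, L0g0, L0g0, L0g1, L0g0, L0g1, L0g2, L0g3, L0g2, L0g2, L0g2] u)) = true := by decide +kernel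
theorem L1eq2 : allBelow 10 693 (fun u => Nat.beq (L1g2 u) (trace [L0g2, L0g1, L0g2, L0g1, L0g0, L0g0, L0g1, L0g2, L0g2, L0g3, L0g0, L0g3, L0g0] u)) = true := by decide +kernel
theorem L1eq3 : allBelow 10 693 (fun u => Nat.beq (L1g3 u) (trace [L0g2, L0g1, L0g0, L0g0, L0g1, L0g0, L0g0, L0g0, L0g3, L0g2, L0g3, L0g0] u)) = true := by decide +kernel
theorem L1inv0 : allBelow 10 693 (invStep L1g0 L1g4 693) = true := by decide +kernel
theorem L1inv1 : allBelow 10 693 (invStep L1g1 L1g5 693) = true := by decide +kernel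
theorem L1inv2 : allBelow 10 693 (invStep L1g2 L1g6 693) = true := by decide +kernel
theorem L1inv3 : allBelow 10 693 (invStep L1g3 L1g7 693) = true := by decide +kernel
theorem L1reach : allBelow 10 693 (reachStep [L1g0, L1g1, L1g2, L1g3, L1g4, L1g5, L1g6, L1g7] 1 L1mark L1rk L1via L1src 693) = true := by decide +kernel
theorem L1count : countLab 10 693 L1mark 1 = 512 := by decide +kernel

theorem L2eq0 : allBelow 10 693 (fun u => Nat.beq (L2g0 u) (trace [L1g7, L1g1, L1g0, L1g5, L1g3] u)) = true := by decide +kernel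
theorem L2eq1 : allBelow 10 693 (fun u => Nat.beq (L2g1 u) (trace [L1g7, L1g6, L1g7, L1g7] u)) = true := by decide +kernel
theorem L2eq2 : allBelow 10 693 (fun u => Nat.beq (L2g2 u) (trace [L1g1, L1g3, L1g2, L1g7, L1g5] u)) = true := by decide +kernel
theorem L2eq3 : allBelow 10 693 (fun u => Nat.beq (L2g3 u) (trace [L1g7, L1g0, L1g2, L1g5, L1g3, L1g3, L1g6, L1g4] u)) = true := by decide +kernel
theorem L2inv0 : allBelow 10 693 (invStep L2g0 L2g4 693) = true := by decide +kernel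
theorem L2inv1 : allBelow 10 693 (invStep L2g1 L2g5 693) = true := by decide +kernel
theorem L2inv2 : allBelow 10 693 (invStep L2g2 L2g6 693) = true := by decide +kernel
theorem L2inv3 : allBelow 10 693 (invStep L2g3 L2g7 693) = true := by decide +kernel
theorem L2reach : allBelow 10 693 (reachStep [L2g0, L2g1, L2g2, L2g3, L2g4, L2g5, L2g6, L2g7] 3 L2mark L2rk L2via L2src 693) = true := by decide +kernel
theorem L2count : countLab 10 693 L2mark 1 = 135 := by decide +kernel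

theorem L3eq0 : allBelow 10 693 (fun u => Nat.beq (L3g0 u) (trace [L2g5, L2g2, L2g1] u)) = true := by decide +kernel
theorem L3eq1 : allBelow 10 693 (fun u => Nat.beq (L3g1 u) (trace [L2g0, L2g1, L2g2, L2g5, L2g5, L2g4] u)) = true := by decide +kernel
theorem L3eq2 : allBelow 10 693 (fun u => Nat.beq (L3g2 u) (trace [L2g1, L2g7, L2g6, L2g7, L2g5] u)) = true := by decide +kernel
theorem L3eq3 : allBelow 10 693 (fun u => Nat.beq (L3g3 u) (trace [L2g2, L2g7, L2g5, L2g3, L2g1, L2g4] u)) = true := by decide +kernel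
theorem L3inv0 : allBelow 10 693 (invStep L3g0 L3g4 693) = true := by decide +kernel
theorem L3inv1 : allBelow 10 693 (invStep L3g1 L3g5 693) = true := by decide +kernel
theorem L3inv2 : allBelow 10 693 (invStep L3g2 L3g6 693) = true := by decide +kernel
theorem L3inv3 : allBelow 10 693 (invStep L3g3 L3g7 693) = true := by decide +kernel
theorem L3reach : allBelow 10 693 (reachStep [L3g0, L3g1, L3g2, L3g3, L3g4, L3g5, L3g6, L3g7] 4 L3mark L3rk L3via L3src 693) = true := by decide +kernel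
theorem L3count : countLab 10 693 L3mark 1 = 12 := by decide +kernel

theorem L4eq0 : allBelow 10 693 (fun u => Nat.beq (L4g0 u) (trace [L3g1, L3g6, L3g4, L3g3, L3g6] u)) = true := by decide +kernel
theorem L4eq1 : allBelow 10 693 (fun u => Nat.beq (L4g1 u) (trace [L3g0, L3g7, L3g4, L3g7] u)) = true := by decide +kernel
theorem L4eq2 : allBelow 10 693 (fun u => Nat.beq (L4g2 u) (trace [L3g0, L3g2, L3g5, L3g3, L3g6] u)) = true := by decide +kernel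
theorem L4eq3 : allBelow 10 693 (fun u => Nat.beq (L4g3 u) (trace [L3g6, L3g5, L3g3, L3g4] u)) = true := by decide +kernel
theorem L4inv0 : allBelow 10 693 (invStep L4g0 L4g4 693) = true := by decide +kernel
theorem L4inv1 : allBelow 10 693 (invStep L4g1 L4g5 693) = true := by decide +kernel
theorem L4inv2 : allBelow 10 693 (invStep L4g2 L4g6 693) = true := by decide +kernel
theorem L4inv3 : allBelow 10 693 (invStep L4g3 L4g7 693) = true := by decide +kernel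
theorem L4reach : allBelow 10 693 (reachStep [L4g0, L4g1, L4g2, L4g3, L4g4, L4g5, L4g6, L4g7] 10 L4mark L4rk L4via L4src 693) = true := by decide +kernel
theorem L4count : countLab 10 693 L4mark 1 = 8 := by decide +kernel

theorem L5eq0 : allBelow 10 693 (fun u => Nat.beq (L5g0 u) (trace [L4g2, L4g0, L4g6] u)) = true := by decide +kernel
theorem L5inv0 : allBelow 10 693 (invStep L5g0 L5g1 693) = true := by decide +kernel
theorem L5reach : allBelow 10 693 (reachStep [L5g0, L5g1] 11 L5mark L5rk L5via L5src 693) = true := by decide +kernel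
theorem L5count : countLab 10 693 L5mark 1 = 2 := by decide +kernel

theorem lower (Q : Subgroup (Equiv.Perm (Fin 693))) (h0 : Realised Q L0g0) (h1 : Realised Q L0g1) : 9196830720 ≤ Nat.card Q := by
  have q0_0 : Realised (ptsStab Q ([] : List (Fin 693))) L0g0 := Realised.mono (ptsStab_nil Q).ge h0
  have q0_2 : Realised (ptsStab Q ([] : List (Fin 693))) L0g2 := Realised.inv q0_0 L0inv0
  have q0_1 : Realised (ptsStab Q ([] : List (Fin 693))) L0g1 := Realised.mono (ptsStab_nil Q).ge h1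
  have q0_3 : Realised (ptsStab Q ([] : List (Fin 693))) L0g3 := Realised.inv q0_1 L0inv1
  have R0 : ∀ t ∈ [L0g0, L0g1, L0g2, L0g3], Realised (ptsStab Q ([] : List (Fin 693))) t :=
    List.forall_mem_cons.mpr ⟨q0_0, List.forall_mem_cons.mpr ⟨q0_1, List.forall_mem_cons.mpr ⟨q0_2, List.forall_mem_cons.mpr ⟨q0_3, (fun _ h => absurd h List.not_mem_nil)⟩⟩⟩⟩
  have q1_0 : Realised (ptsStab Q ([⟨0, by decide⟩] : List (Fin 693))) L1g0 :=
    realised_new (prev := ([] : List (Fin 693))) (ts := [L0g0, L0g0, L0g1, L0g0, L0g1, L0g2, L0g3, L0g2, L0g2])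
      (List.forall_mem_cons.mpr ⟨q0_0, (List.forall_mem_cons.mpr ⟨q0_0, (List.forall_mem_cons.mpr ⟨q0_1, (List.forall_mem_cons.mpr ⟨q0_0, (List.forall_mem_cons.mpr ⟨q0_1, (List.forall_mem_cons.mpr ⟨q0_2, (List.forall_mem_cons.mpr ⟨q0_3, (List.forall_mem_cons.mpr ⟨q0_2, (List.forall_mem_cons.mpr ⟨q0_2, (fun _ h => absurd h List.not_mem_nil)⟩)⟩)⟩)⟩)⟩)⟩)⟩)⟩)⟩) L1eq0 (by decide +kernel)
  have q1_4 : Realised (ptsStab Q ([⟨0, by decide⟩] : List (Fin 693))) L1g4 := Realised.inv q1_0 L1inv0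
  have q1_1 : Realised (ptsStab Q ([⟨0, by decide⟩] : List (Fin 693))) L1g1 :=
    realised_new (prev := ([] : List (Fin 693))) (ts := [L0g0, L0g0, L0g0, L0g1, L0g0, L0g1, L0g2, L0g3, L0g2, L0g2, L0g2])
      (List.forall_mem_cons.mpr ⟨q0_0, (List.forall_mem_cons.mpr ⟨q0_0, (List.forall_mem_cons.mpr ⟨q0_0, (List.forall_mem_cons.mpr ⟨q0_1, (List.forall_mem_cons.mpr ⟨q0_0, (List.forall_mem_cons.mpr ⟨q0_1, (List.forall_mem_cons.mpr ⟨q0_2, (List.forall_mem_cons.mpr ⟨q0_3, (List.forall_mem_cons.mpr ⟨q0_2, (List.forall_mem_cons.mpr ⟨q0_2, (List.forall_mem_cons.mpr ⟨q0_2, (fun _ h => absurd h List.not_mem_nil)⟩)⟩)⟩)⟩)⟩)⟩)⟩)⟩)⟩)⟩)⟩) L1eq1 (by decide +kernel)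
  have q1_5 : Realised (ptsStab Q ([⟨0, by decide⟩] : List (Fin 693))) L1g5 := Realised.inv q1_1 L1inv1
  have q1_2 : Realised (ptsStab Q ([⟨0, by decide⟩] : List (Fin 693))) L1g2 :=
    realised_new (prev := ([] : List (Fin 693))) (ts := [L0g2, L0g1, L0g2, L0g1, L0g0, L0g0, L0g1, L0g2, L0g2, L0g3, L0g0, L0g3, L0g0])
      (List.forall_mem_cons.mpr ⟨q0_2, (List.forall_mem_cons.mpr ⟨q0_1, (List.forall_mem_cons.mpr ⟨q0_2, (List.forall_mem_cons.mpr ⟨q0_1, (List.forall_mem_cons.mpr ⟨q0_0, (List.forall_mem_cons.mpr ⟨q0_0, (List.forall_mem_cons.mpr ⟨q0_1, (List.forall_mem_cons.mpr ⟨q0_2, (List.forall_mem_cons.mpr ⟨q0_2, (List.forall_mem_cons.mpr ⟨q0_3, (List.forall_mem_cons.mpr ⟨q0_0, (List.forall_mem_cons.mpr ⟨q0_3, (List.forall_mem_cons.mpr ⟨q0_0, (fun _ h => absurd h List.not_mem_nil)⟩)⟩)⟩)⟩)⟩)⟩)⟩)⟩)⟩)⟩)⟩)⟩)⟩) L1eq2 (by decide +kernel)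
  have q1_6 : Realised (ptsStab Q ([⟨0, by decide⟩] : List (Fin 693))) L1g6 := Realised.inv q1_2 L1inv2
  have q1_3 : Realised (ptsStab Q ([⟨0, by decide⟩] : List (Fin 693))) L1g3 :=
    realised_new (prev := ([] : List (Fin 693))) (ts := [L0g2, L0g1, L0g0, L0g0, L0g1, L0g0, L0g0, L0g0, L0g3, L0g2, L0g3, L0g0])
      (List.forall_mem_cons.mpr ⟨q0_2, (List.forall_mem_cons.mpr ⟨q0_1, (List.forall_mem_cons.mpr ⟨q0_0, (List.forall_mem_cons.mpr ⟨q0_0, (List.forall_mem_cons.mpr ⟨q0_1, (List.forall_mem_cons.mpr ⟨q0_0, (List.forall_mem_cons.mpr ⟨q0_0, (List.forall_mem_cons.mpr ⟨q0_0, (List.forall_mem_cons.mpr ⟨q0_3, (List.forall_mem_cons.mpr ⟨q0_2, (List.forall_mem_cons.mpr ⟨q0_3, (List.forall_mem_cons.mpr ⟨q0_0, (fun _ h => absurd h List.not_mem_nil)⟩)⟩)⟩)⟩)⟩)⟩)⟩)⟩)⟩)⟩)⟩)⟩) L1eq3 (by decide +kernel)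
  have q1_7 : Realised (ptsStab Q ([⟨0, by decide⟩] : List (Fin 693))) L1g7 := Realised.inv q1_3 L1inv3
  have R1 : ∀ t ∈ [L1g0, L1g1, L1g2, L1g3, L1g4, L1g5, L1g6, L1g7], Realised (ptsStab Q ([⟨0, by decide⟩] : List (Fin 693))) t :=
    List.forall_mem_cons.mpr ⟨q1_0, List.forall_mem_cons.mpr ⟨q1_1, List.forall_mem_cons.mpr ⟨q1_2, List.forall_mem_cons.mpr ⟨q1_3, List.forall_mem_cons.mpr ⟨q1_4, List.forall_mem_cons.mpr ⟨q1_5, List.forall_mem_cons.mpr ⟨q1_6, List.forall_mem_cons.mpr ⟨q1_7, (fun _ h => absurd h List.not_mem_nil)⟩⟩⟩⟩⟩⟩⟩⟩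
  have q2_0 : Realised (ptsStab Q ([⟨0, by decide⟩, ⟨1, by decide⟩] : List (Fin 693))) L2g0 :=
    realised_new (prev := ([⟨0, by decide⟩] : List (Fin 693))) (ts := [L1g7, L1g1, L1g0, L1g5, L1g3])
      (List.forall_mem_cons.mpr ⟨q1_7, (List.forall_mem_cons.mpr ⟨q1_1, (List.forall_mem_cons.mpr ⟨q1_0, (List.forall_mem_cons.mpr ⟨q1_5, (List.forall_mem_cons.mpr ⟨q1_3, (fun _ h => absurd h List.not_mem_nil)⟩)⟩)⟩)⟩)⟩) L2eq0 (by decide +kernel)
  have q2_4 : Realised (ptsStab Q ([⟨0, by decide⟩, ⟨1, by decide⟩] : List (Fin 693))) L2g4 := Realised.inv q2_0 L2inv0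
  have q2_1 : Realised (ptsStab Q ([⟨0, by decide⟩, ⟨1, by decide⟩] : List (Fin 693))) L2g1 :=
    realised_new (prev := ([⟨0, by decide⟩] : List (Fin 693))) (ts := [L1g7, L1g6, L1g7, L1g7])
      (List.forall_mem_cons.mpr ⟨q1_7, (List.forall_mem_cons.mpr ⟨q1_6, (List.forall_mem_cons.mpr ⟨q1_7, (List.forall_mem_cons.mpr ⟨q1_7, (fun _ h => absurd h List.not_mem_nil)⟩)⟩)⟩)⟩) L2eq1 (by decide +kernel)
  have q2_5 : Realised (ptsStab Q ([⟨0, by decide⟩, ⟨1, by decide⟩] : List (Fin 693))) L2g5 := Realised.inv q2_1 L2inv1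
  have q2_2 : Realised (ptsStab Q ([⟨0, by decide⟩, ⟨1, by decide⟩] : List (Fin 693))) L2g2 :=
    realised_new (prev := ([⟨0, by decide⟩] : List (Fin 693))) (ts := [L1g1, L1g3, L1g2, L1g7, L1g5])
      (List.forall_mem_cons.mpr ⟨q1_1, (List.forall_mem_cons.mpr ⟨q1_3, (List.forall_mem_cons.mpr ⟨q1_2, (List.forall_mem_cons.mpr ⟨q1_7, (List.forall_mem_cons.mpr ⟨q1_5, (fun _ h => absurd h List.not_mem_nil)⟩)⟩)⟩)⟩)⟩) L2eq2 (by decide +kernel)
  have q2_6 : Realised (ptsStab Q ([⟨0, by decide⟩, ⟨1, by decide⟩] : List (Fin 693))) L2g6 := Realised.inv q2_2 L2inv2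
  have q2_3 : Realised (ptsStab Q ([⟨0, by decide⟩, ⟨1, by decide⟩] : List (Fin 693))) L2g3 :=
    realised_new (prev := ([⟨0, by decide⟩] : List (Fin 693))) (ts := [L1g7, L1g0, L1g2, L1g5, L1g3, L1g3, L1g6, L1g4])
      (List.forall_mem_cons.mpr ⟨q1_7, (List.forall_mem_cons.mpr ⟨q1_0, (List.forall_mem_cons.mpr ⟨q1_2, (List.forall_mem_cons.mpr ⟨q1_5, (List.forall_mem_cons.mpr ⟨q1_3, (List.forall_mem_cons.mpr ⟨q1_3, (List.forall_mem_cons.mpr ⟨q1_6, (List.forall_mem_cons.mpr ⟨q1_4, (fun _ h => absurd h List.not_mem_nil)⟩)⟩)⟩)⟩)⟩)⟩)⟩)⟩) L2eq3 (by decide +kernel)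
  have q2_7 : Realised (ptsStab Q ([⟨0, by decide⟩, ⟨1, by decide⟩] : List (Fin 693))) L2g7 := Realised.inv q2_3 L2inv3
  have R2 : ∀ t ∈ [L2g0, L2g1, L2g2, L2g3, L2g4, L2g5, L2g6, L2g7], Realised (ptsStab Q ([⟨0, by decide⟩, ⟨1, by decide⟩] : List (Fin 693))) t :=
    List.forall_mem_cons.mpr ⟨q2_0, List.forall_mem_cons.mpr ⟨q2_1, List.forall_mem_cons.mpr ⟨q2_2, List.forall_mem_cons.mpr ⟨q2_3, List.forall_mem_cons.mpr ⟨q2_4, List.forall_mem_cons.mpr ⟨q2_5, List.forall_mem_cons.mpr ⟨q2_6, List.forall_mem_cons.mpr ⟨q2_7, (fun _ h => absurd h List.not_mem_nil)⟩⟩⟩⟩⟩⟩⟩⟩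
  have q3_0 : Realised (ptsStab Q ([⟨0, by decide⟩, ⟨1, by decide⟩, ⟨3, by decide⟩] : List (Fin 693))) L3g0 :=
    realised_new (prev := ([⟨0, by decide⟩, ⟨1, by decide⟩] : List (Fin 693))) (ts := [L2g5, L2g2, L2g1])
      (List.forall_mem_cons.mpr ⟨q2_5, (List.forall_mem_cons.mpr ⟨q2_2, (List.forall_mem_cons.mpr ⟨q2_1, (fun _ h => absurd h List.not_mem_nil)⟩)⟩)⟩) L3eq0 (by decide +kernel)
  have q3_4 : Realised (ptsStab Q ([⟨0, by decide⟩, ⟨1, by decide⟩, ⟨3, by decide⟩] : List (Fin 693))) L3g4 := Realised.inv q3_0 L3inv0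
  have q3_1 : Realised (ptsStab Q ([⟨0, by decide⟩, ⟨1, by decide⟩, ⟨3, by decide⟩] : List (Fin 693))) L3g1 :=
    realised_new (prev := ([⟨0, by decide⟩, ⟨1, by decide⟩] : List (Fin 693))) (ts := [L2g0, L2g1, L2g2, L2g5, L2g5, L2g4])
      (List.forall_mem_cons.mpr ⟨q2_0, (List.forall_mem_cons.mpr ⟨q2_1, (List.forall_mem_cons.mpr ⟨q2_2, (List.forall_mem_cons.mpr ⟨q2_5, (List.forall_mem_cons.mpr ⟨q2_5, (List.forall_mem_cons.mpr ⟨q2_4, (fun _ h => absurd h List.not_mem_nil)⟩)⟩)⟩)⟩)⟩)⟩) L3eq1 (by decide +kernel)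
  have q3_5 : Realised (ptsStab Q ([⟨0, by decide⟩, ⟨1, by decide⟩, ⟨3, by decide⟩] : List (Fin 693))) L3g5 := Realised.inv q3_1 L3inv1
  have q3_2 : Realised (ptsStab Q ([⟨0, by decide⟩, ⟨1, by decide⟩, ⟨3, by decide⟩] : List (Fin 693))) L3g2 :=
    realised_new (prev := ([⟨0, by decide⟩, ⟨1, by decide⟩] : List (Fin 693))) (ts := [L2g1, L2g7, L2g6, L2g7, L2g5])
      (List.forall_mem_cons.mpr ⟨q2_1, (List.forall_mem_cons.mpr ⟨q2_7, (List.forall_mem_cons.mpr ⟨q2_6, (List.forall_mem_cons.mpr ⟨q2_7, (List.forall_mem_cons.mpr ⟨q2_5, (fun _ h => absurd h List.not_mem_nil)⟩)⟩)⟩)⟩)⟩) L3eq2 (by decide +kernel)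
  have q3_6 : Realised (ptsStab Q ([⟨0, by decide⟩, ⟨1, by decide⟩, ⟨3, by decide⟩] : List (Fin 693))) L3g6 := Realised.inv q3_2 L3inv2
  have q3_3 : Realised (ptsStab Q ([⟨0, by decide⟩, ⟨1, by decide⟩, ⟨3, by decide⟩] : List (Fin 693))) L3g3 :=
    realised_new (prev := ([⟨0, by decide⟩, ⟨1, by decide⟩] : List (Fin 693))) (ts := [L2g2, L2g7, L2g5, L2g3, L2g1, L2g4])
      (List.forall_mem_cons.mpr ⟨q2_2, (List.forall_mem_cons.mpr ⟨q2_7, (List.forall_mem_cons.mpr ⟨q2_5, (List.forall_mem_cons.mpr ⟨q2_3, (List.forall_mem_cons.mpr ⟨q2_1, (List.forall_mem_cons.mpr ⟨q2_4, (fun _ h => absurd h List.not_mem_nil)⟩)⟩)⟩)⟩)⟩)⟩) L3eq3 (by decide +kernel)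
  have q3_7 : Realised (ptsStab Q ([⟨0, by decide⟩, ⟨1, by decide⟩, ⟨3, by decide⟩] : List (Fin 693))) L3g7 := Realised.inv q3_3 L3inv3
  have R3 : ∀ t ∈ [L3g0, L3g1, L3g2, L3g3, L3g4, L3g5, L3g6, L3g7], Realised (ptsStab Q ([⟨0, by decide⟩, ⟨1, by decide⟩, ⟨3, by decide⟩] : List (Fin 693))) t :=
    List.forall_mem_cons.mpr ⟨q3_0, List.forall_mem_cons.mpr ⟨q3_1, List.forall_mem_cons.mpr ⟨q3_2, List.forall_mem_cons.mpr ⟨q3_3, List.forall_mem_cons.mpr ⟨q3_4, List.forall_mem_cons.mpr ⟨q3_5, List.forall_mem_cons.mpr ⟨q3_6, List.forall_mem_cons.mpr ⟨q3_7, (fun _ h => absurd h List.not_mem_nil)⟩⟩⟩⟩⟩⟩⟩⟩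
  have q4_0 : Realised (ptsStab Q ([⟨0, by decide⟩, ⟨1, by decide⟩, ⟨3, by decide⟩, ⟨4, by decide⟩] : List (Fin 693))) L4g0 :=
    realised_new (prev := ([⟨0, by decide⟩, ⟨1, by decide⟩, ⟨3, by decide⟩] : List (Fin 693))) (ts := [L3g1, L3g6, L3g4, L3g3, L3g6])
      (List.forall_mem_cons.mpr ⟨q3_1, (List.forall_mem_cons.mpr ⟨q3_6, (List.forall_mem_cons.mpr ⟨q3_4, (List.forall_mem_cons.mpr ⟨q3_3, (List.forall_mem_cons.mpr ⟨q3_6, (fun _ h => absurd h List.not_mem_nil)⟩)⟩)⟩)⟩)⟩) L4eq0 (by decide +kernel)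
  have q4_4 : Realised (ptsStab Q ([⟨0, by decide⟩, ⟨1, by decide⟩, ⟨3, by decide⟩, ⟨4, by decide⟩] : List (Fin 693))) L4g4 := Realised.inv q4_0 L4inv0
  have q4_1 : Realised (ptsStab Q ([⟨0, by decide⟩, ⟨1, by decide⟩, ⟨3, by decide⟩, ⟨4, by decide⟩] : List (Fin 693))) L4g1 :=
    realised_new (prev := ([⟨0, by decide⟩, ⟨1, by decide⟩, ⟨3, by decide⟩] : List (Fin 693))) (ts := [L3g0, L3g7, L3g4, L3g7])
      (List.forall_mem_cons.mpr ⟨q3_0, (List.forall_mem_cons.mpr ⟨q3_7, (List.forall_mem_cons.mpr ⟨q3_4, (List.forall_mem_cons.mpr ⟨q3_7, (fun _ h => absurd h List.not_mem_nil)⟩)⟩)⟩)⟩) L4eq1 (by decide +kernel)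
  have q4_5 : Realised (ptsStab Q ([⟨0, by decide⟩, ⟨1, by decide⟩, ⟨3, by decide⟩, ⟨4, by decide⟩] : List (Fin 693))) L4g5 := Realised.inv q4_1 L4inv1
  have q4_2 : Realised (ptsStab Q ([⟨0, by decide⟩, ⟨1, by decide⟩, ⟨3, by decide⟩, ⟨4, by decide⟩] : List (Fin 693))) L4g2 :=
    realised_new (prev := ([⟨0, by decide⟩, ⟨1, by decide⟩, ⟨3, by decide⟩] : List (Fin 693))) (ts := [L3g0, L3g2, L3g5, L3g3, L3g6])
      (List.forall_mem_cons.mpr ⟨q3_0, (List.forall_mem_cons.mpr ⟨q3_2, (List.forall_mem_cons.mpr ⟨q3_5, (List.forall_mem_cons.mpr ⟨q3_3, (List.forall_mem_cons.mpr ⟨q3_6, (fun _ h => absurd h List.not_mem_nil)⟩)⟩)⟩)⟩)⟩) L4eq2 (by decide +kernel)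
  have q4_6 : Realised (ptsStab Q ([⟨0, by decide⟩, ⟨1, by decide⟩, ⟨3, by decide⟩, ⟨4, by decide⟩] : List (Fin 693))) L4g6 := Realised.inv q4_2 L4inv2
  have q4_3 : Realised (ptsStab Q ([⟨0, by decide⟩, ⟨1, by decide⟩, ⟨3, by decide⟩, ⟨4, by decide⟩] : List (Fin 693))) L4g3 :=
    realised_new (prev := ([⟨0, by decide⟩, ⟨1, by decide⟩, ⟨3, by decide⟩] : List (Fin 693))) (ts := [L3g6, L3g5, L3g3, L3g4])
      (List.forall_mem_cons.mpr ⟨q3_6, (List.forall_mem_cons.mpr ⟨q3_5, (List.forall_mem_cons.mpr ⟨q3_3, (List.forall_mem_cons.mpr ⟨q3_4, (fun _ h => absurd h List.not_mem_nil)⟩)⟩)⟩)⟩) L4eq3 (by decide +kernel)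
  have q4_7 : Realised (ptsStab Q ([⟨0, by decide⟩, ⟨1, by decide⟩, ⟨3, by decide⟩, ⟨4, by decide⟩] : List (Fin 693))) L4g7 := Realised.inv q4_3 L4inv3
  have R4 : ∀ t ∈ [L4g0, L4g1, L4g2, L4g3, L4g4, L4g5, L4g6, L4g7], Realised (ptsStab Q ([⟨0, by decide⟩, ⟨1, by decide⟩, ⟨3, by decide⟩, ⟨4, by decide⟩] : List (Fin 693))) t :=
    List.forall_mem_cons.mpr ⟨q4_0, List.forall_mem_cons.mpr ⟨q4_1, List.forall_mem_cons.mpr ⟨q4_2, List.forall_mem_cons.mpr ⟨q4_3, List.forall_mem_cons.mpr ⟨q4_4, List.forall_mem_cons.mpr ⟨q4_5, List.forall_mem_cons.mpr ⟨q4_6, List.forall_mem_cons.mpr ⟨q4_7, (fun _ h => absurd h List.not_mem_nil)⟩⟩⟩⟩⟩⟩⟩⟩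
  have q5_0 : Realised (ptsStab Q ([⟨0, by decide⟩, ⟨1, by decide⟩, ⟨3, by decide⟩, ⟨4, by decide⟩, ⟨10, by decide⟩] : List (Fin 693))) L5g0 :=
    realised_new (prev := ([⟨0, by decide⟩, ⟨1, by decide⟩, ⟨3, by decide⟩, ⟨4, by decide⟩] : List (Fin 693))) (ts := [L4g2, L4g0, L4g6])
      (List.forall_mem_cons.mpr ⟨q4_2, (List.forall_mem_cons.mpr ⟨q4_0, (List.forall_mem_cons.mpr ⟨q4_6, (fun _ h => absurd h List.not_mem_nil)⟩)⟩)⟩) L5eq0 (by decide +kernel)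
  have q5_1 : Realised (ptsStab Q ([⟨0, by decide⟩, ⟨1, by decide⟩, ⟨3, by decide⟩, ⟨4, by decide⟩, ⟨10, by decide⟩] : List (Fin 693))) L5g1 := Realised.inv q5_0 L5inv0
  have R5 : ∀ t ∈ [L5g0, L5g1], Realised (ptsStab Q ([⟨0, by decide⟩, ⟨1, by decide⟩, ⟨3, by decide⟩, ⟨4, by decide⟩, ⟨10, by decide⟩] : List (Fin 693))) t :=
    List.forall_mem_cons.mpr ⟨q5_0, List.forall_mem_cons.mpr ⟨q5_1, (fun _ h => absurd h List.not_mem_nil)⟩⟩
  have c6 : 1 ≤ Nat.card (ptsStab Q ([⟨0, by decide⟩, ⟨1, by decide⟩, ⟨3, by decide⟩, ⟨4, by decide⟩, ⟨10, by decide⟩, ⟨11, by decide⟩] : List (Fin 693))) := one_le_card_ptsStab _ _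
  have c5 : 2 ≤ Nat.card (ptsStab Q ([⟨0, by decide⟩, ⟨1, by decide⟩, ⟨3, by decide⟩, ⟨4, by decide⟩, ⟨10, by decide⟩] : List (Fin 693))) := by
    have h := card_ptsStab_ge ([⟨0, by decide⟩, ⟨1, by decide⟩, ⟨3, by decide⟩, ⟨4, by decide⟩, ⟨10, by decide⟩] : List (Fin 693)) (⟨11, by decide⟩ : Fin 693) _ R5 L5mark L5rk L5via L5src
      L5reach L5count c6
    exact h
  have c4 : 16 ≤ Nat.card (ptsStab Q ([⟨0, by decide⟩, ⟨1, by decide⟩, ⟨3, by decide⟩, ⟨4, by decide⟩] : List (Fin 693))) := by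
    have h := card_ptsStab_ge ([⟨0, by decide⟩, ⟨1, by decide⟩, ⟨3, by decide⟩, ⟨4, by decide⟩] : List (Fin 693)) (⟨10, by decide⟩ : Fin 693) _ R4 L4mark L4rk L4via L4src
      L4reach L4count c5
    exact h
  have c3 : 192 ≤ Nat.card (ptsStab Q ([⟨0, by decide⟩, ⟨1, by decide⟩, ⟨3, by decide⟩] : List (Fin 693))) := by
    have h := card_ptsStab_ge ([⟨0, by decide⟩, ⟨1, by decide⟩, ⟨3, by decide⟩] : List (Fin 693)) (⟨4, by decide⟩ : Fin 693) _ R3 L3mark L3rk L3via L3src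
      L3reach L3count c4
    exact h
  have c2 : 25920 ≤ Nat.card (ptsStab Q ([⟨0, by decide⟩, ⟨1, by decide⟩] : List (Fin 693))) := by
    have h := card_ptsStab_ge ([⟨0, by decide⟩, ⟨1, by decide⟩] : List (Fin 693)) (⟨3, by decide⟩ : Fin 693) _ R2 L2mark L2rk L2via L2src
      L2reach L2count c3
    exact h
  have c1 : 13271040 ≤ Nat.card (ptsStab Q ([⟨0, by decide⟩] : List (Fin 693))) := by
    have h := card_ptsStab_ge ([⟨0, by decide⟩] : List (Fin 693)) (⟨1, by decide⟩ : Fin 693) _ R1 L1mark L1rk L1via L1src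
      L1reach L1count c2
    exact h
  have c0 : 9196830720 ≤ Nat.card (ptsStab Q ([] : List (Fin 693))) := by
    have h := card_ptsStab_ge ([] : List (Fin 693)) (⟨0, by decide⟩ : Fin 693) _ R0 L0mark L0rk L0via L0src
      L0reach L0count c1
    exact h
  rw [ptsStab_nil] at c0
  exact c0

end CfsgLib.SporadicB.Fi22
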