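import Cfsg.Agent.Lib.SporadicB.Fi22.Data
import Cfsg.Agent.Lib.SporRecognition.Cert.Fi22U.Orbits

/-! Checks: the centraliser of a transposition of Fi22 on 693 isotropic lines. -/

set_option autoImplicit false
set_option linter.all false
set_option Elab.async false

namespace CfsgLib.SporadicB.Fi22

open CfsgLib.SporRecognition.CosetCert (allBelow trace field sel wordTabs fixStep)
open CfsgLib.SporRecognition.Cert.Fi22U (subT tabs lab T1 T3 T4 T5 T6 T7 T8 T9 H8)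

/-- Product of codes of elements of the field with four elements. -/
def cmul (a b : Nat) : Nat := if a = 0 then 0 else if b = 0 then 0 else (a + b - 2) % 3 + 1

/-- Conjugate of a code. -/
def cconj (a : Nat) : Nat := if a = 2 then 3 else if a = 3 then 2 else a

noncomputable def entry (M : Nat → Nat) (r c : Fin 6) : Nat := M (6 * r + c)

noncomputable def vdig (x : Nat) (r : Fin 6) : Nat := field x 2 r

noncomputable def mvDig (M : Nat → Nat) (x : Nat) (r : Fin 6) : Nat :=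
  Nat.xor (Nat.xor (Nat.xor (cmul (entry M r 0) (vdig x 0)) (cmul (entry M r 1) (vdig x 1)))
    (Nat.xor (cmul (entry M r 2) (vdig x 2)) (cmul (entry M r 3) (vdig x 3))))
    (Nat.xor (cmul (entry M r 4) (vdig x 4)) (cmul (entry M r 5) (vdig x 5)))

noncomputable def restrictStep (i : Nat) : Bool :=
  Nat.blt (pt i) 3510 && (bif Nat.beq i 0 then true else Nat.blt (pt (Nat.sub i 1)) (pt i))
  && Nat.blt (k0 i) 693 && Nat.beq (sel subT 0 (pt i)) (pt (k0 i))
  && Nat.blt (k1 i) 693 && Nat.beq (sel subT 1 (pt i)) (pt (k1 i))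
  && Nat.blt (k2 i) 693 && Nat.beq (sel subT 2 (pt i)) (pt (k2 i))
  && Nat.blt (k3 i) 693 && Nat.beq (sel subT 3 (pt i)) (pt (k3 i))
  && Nat.blt (k4 i) 693 && Nat.beq (sel subT 4 (pt i)) (pt (k4 i))
  && Nat.blt (k5 i) 693 && Nat.beq (sel subT 5 (pt i)) (pt (k5 i))
  && Nat.blt (k6 i) 693 && Nat.beq (sel subT 6 (pt i)) (pt (k6 i))
  && Nat.blt (k7 i) 693 && Nat.beq (sel subT 7 (pt i)) (pt (k7 i))
  && Nat.blt (k8 i) 693 && Nat.beq (sel subT 8 (pt i)) (pt (k8 i))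

theorem restrict_ok : allBelow 10 693 restrictStep = true := by decide +kernel

theorem gens_ok : allBelow 10 693 (fun u => Nat.beq (pA u) (trace [k1, k8, k3, k2, k5, k4, k3, k6, k2, k2, k7, k4, k6] u) &&
    Nat.beq (pB u) (trace [k5, k4, k5, k5, k0, k4, k6, k4, k6, k4, k0, k5, k5, k4, k5] u) && Nat.beq (k0 u) u &&
    Nat.beq (L0g0 u) (pA u) && Nat.beq (L0g1 u) (pB u)) = true := by decide +kernel

noncomputable def lineStep (i : Nat) : Bool :=
  Nat.blt (ln i) 4096 && Nat.blt (pA i) 693 && Nat.blt (pB i) 693 &&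
    Nat.blt 0 (scA i) && Nat.blt 0 (scB i) &&
    (List.finRange 6).all (fun r => Nat.beq (mvDig digA (ln i) r) (cmul (scA i) (vdig (ln (pA i)) r)) &&
      Nat.beq (mvDig digB (ln i) r) (cmul (scB i) (vdig (ln (pB i)) r))) &&
    Nat.blt (first i) 6 &&
    (List.finRange 6).all (fun r => bif Nat.blt r (first i) then Nat.beq (vdig (ln i) r) 0
      else bif Nat.beq r (first i) then Nat.beq (vdig (ln i) r) 1 else true) &&
    Nat.blt (lnSrt i) 693 &&
    (bif Nat.beq i 0 then true else Nat.blt (ln (lnSrt (Nat.sub i 1))) (ln (lnSrt i)))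

theorem lines_ok : allBelow 10 693 lineStep = true := by decide +kernel

/-- Hermitian product of two columns. -/
noncomputable def hermCode (M : Nat → Nat) (c d : Fin 6) : Nat :=
  Nat.xor (Nat.xor (Nat.xor (cmul (entry M 0 c) (cconj (entry M 0 d))) (cmul (entry M 1 c) (cconj (entry M 1 d))))
    (Nat.xor (cmul (entry M 2 c) (cconj (entry M 2 d))) (cmul (entry M 3 c) (cconj (entry M 3 d)))))
    (Nat.xor (cmul (entry M 4 c) (cconj (entry M 4 d))) (cmul (entry M 5 c) (cconj (entry M 5 d))))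

theorem mats_ok : (List.finRange 6).all (fun r => (List.finRange 6).all (fun c =>
    Nat.blt (entry digA r c) 4 && Nat.blt (entry digB r c) 4 &&
    Nat.beq (hermCode digA r c) (if r = c then 1 else 0) && Nat.beq (hermCode digB r c) (if r = c then 1 else 0))) = true := by
  decide +kernel

/-- Matrix product on codes. -/
noncomputable def mulCode (M N : Nat → Nat) (k : Nat) : Nat :=
  Nat.xor (Nat.xor (Nat.xor (cmul (M (6 * (k / 6) + 0)) (N (0 + k % 6))) (cmul (M (6 * (k / 6) + 1)) (N (6 + k % 6))))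
    (Nat.xor (cmul (M (6 * (k / 6) + 2)) (N (12 + k % 6))) (cmul (M (6 * (k / 6) + 3)) (N (18 + k % 6)))))
    (Nat.xor (cmul (M (6 * (k / 6) + 4)) (N (24 + k % 6))) (cmul (M (6 * (k / 6) + 5)) (N (30 + k % 6))))

/-- The seven chosen lines. -/
def selLine : Fin 7 → Nat := ![308, 31, 275, 484, 609, 396, 437]

noncomputable def combDig (f : Fin 6 → Nat) (r : Fin 6) : Nat :=
  Nat.xor (Nat.xor (Nat.xor (cmul (f 0) (vdig (ln (selLine 0)) r)) (cmul (f 1) (vdig (ln (selLine 1)) r)))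
    (Nat.xor (cmul (f 2) (vdig (ln (selLine 2)) r)) (cmul (f 3) (vdig (ln (selLine 3)) r))))
    (Nat.xor (cmul (f 4) (vdig (ln (selLine 4)) r)) (cmul (f 5) (vdig (ln (selLine 5)) r)))

theorem comb_ok : ((List.finRange 6).all (fun j => (List.finRange 6).all (fun r =>
    Nat.beq (combDig (fun i => comb (6 * j + i)) r) (if r = j then 1 else 0))) &&
  (List.finRange 6).all (fun r => Nat.blt 0 (combW r) && Nat.blt (combW r) 4 &&
    Nat.beq (combDig (fun i => combW i) r) (vdig (ln (selLine 6)) r))) = true := by decide +kernel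

def repW0 : List (Cfsg.Spor.Fi22.Gen × Bool) := [(.b, true)]

theorem rep0_ok : (Nat.beq (trace (wordTabs tabs repW0) 0) 1 && Nat.beq (lab 1) 1 &&
    allBelow 12 3510 (fixStep (wordTabs tabs (List.replicate 3 ([(Cfsg.Spor.Fi22.Gen.a, true)] ++ repW0 ++ [(Cfsg.Spor.Fi22.Gen.a, true)] ++ FreeGroup.invRev repW0)).flatten))) = true := by
  decide +kernel

def repW1 : List (Cfsg.Spor.Fi22.Gen × Bool) := [(.b, true), (.c, true), (.a, true), (.b, true)]

theorem rep1_ok : (Nat.beq (trace (wordTabs tabs repW1) 0) 4 && Nat.beq (lab 4) 2 &&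
    allBelow 12 3510 (fixStep (wordTabs tabs (List.replicate 2 ([(Cfsg.Spor.Fi22.Gen.a, true)] ++ repW1 ++ [(Cfsg.Spor.Fi22.Gen.a, true)] ++ FreeGroup.invRev repW1)).flatten))) = true := by
  decide +kernel

theorem central_ok : allBelow 12 3510 (fun u =>
    Nat.beq (T1 (T1 u)) (T1 (T1 u)) &&
    Nat.beq (T1 (T3 u)) (T3 (T1 u)) &&
    Nat.beq (T1 (T4 u)) (T4 (T1 u)) &&
    Nat.beq (T1 (T5 u)) (T5 (T1 u)) &&
    Nat.beq (T1 (T6 u)) (T6 (T1 u)) &&
    Nat.beq (T1 (T7 u)) (T7 (T1 u)) &&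
    Nat.beq (T1 (T8 u)) (T8 (T1 u)) &&
    Nat.beq (T1 (T9 u)) (T9 (T1 u)) &&
    Nat.beq (T1 (H8 u)) (H8 (T1 u)) &&
    Nat.beq (trace [T1, T5, T3, H8, T4, T6, T5, T5, T3, H8, T4, T6, T5, T8, T6, T3, T4, T6, T6, T8, T6, T3, T4, T6, T6, T1, T5, T3, H8, T4, T6, T5, T5, T3, H8, T4, T6, T5, T8, T6, T3, T4, T6, T6, T8, T6, T3, T4, T6, T6, T1, T5, T3, H8, T4, T6, T5, T5, T3, H8, T4, T6, T5, T8, T6, T3, T4, T6, T6, T8, T6, T3, T4, T6, T6, T1, T5, T3, H8, T4, T6, T5, T5, T3, H8, T4, T6, T5, T8, T6, T3, T4, T6, T6, T8, T6, T3, T4, T6, T6, T6, T6, T4, T3, T6, T8, T6, T6, T4, T3, T6, T8, T5, T6, T4, H8, T3, T5, T5, T6, T4, H8, T3, T5] u) (T1 u)) = true := by decide +kernel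

def wordA : List (Fin 9) := [1, 8, 3, 2, 5, 4, 3, 6, 2, 2, 7, 4, 6]
def wordB : List (Fin 9) := [5, 4, 5, 5, 0, 4, 6, 4, 6, 4, 0, 5, 5, 4, 5]
def sqW : List (Fin 9) := [3, 4, 2, 8, 1, 3]
def sqV : List (Fin 9) := [4, 4, 2, 1, 4, 6]
def sqZ : List (Fin 9) := [0, 3, 1, 8, 2, 4, 3, 3, 1, 8, 2, 4, 3, 6, 4, 1, 2, 4, 4, 6, 4, 1, 2, 4, 4, 0, 3, 1, 8, 2, 4, 3, 3, 1, 8, 2, 4, 3, 6, 4, 1, 2, 4, 4, 6, 4, 1, 2, 4, 4]

end CfsgLib.SporadicB.Fi22
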